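import Cfsg.Agent.Star.Ind
import Cfsg.Agent.BlkF.Abel
import Cfsg.Agent.BlkF.Index
import Cfsg.Agent.BlkF.Central
import Cfsg.Agent.BlkF.Transport

/-!
# Local blocks of a block with abelian defect group
-/

set_option autoImplicit false
set_option linter.unusedSectionVars false
set_option linter.style.haveILetI false

universe u

namespace Cfsg.Agent.Star

open MonoidAlgebra Cfsg Cfsg.Agent.Blk Cfsg.Agent.BlkF Cfsg.Agent.CharBase

section gen

variable {k : Type*} [Field k] {G : Type*} [Group G] [Finite G]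
variable {p : ℕ} [Fact p.Prime] [CharP k p]

/-- the local data in `C_G(Q)` -/
theorem local_setup {P : Subgroup G} {e : MonoidAlgebra k G} (he : MMax p P e)
    (hab : ∀ x ∈ P, ∀ y ∈ P, x * y = y * x) {Q : Subgroup G} {f : MonoidAlgebra k G}
    (hQ : MLe p Q f P e) :
    MPairOf p (res (Subgroup.centralizer (Q : Set G)) f)
      (P.subgroupOf (Subgroup.centralizer (Q : Set G)))
      (res (Subgroup.centralizer (Q : Set G)) e) ∧
    MMax p (P.subgroupOf (Subgroup.centralizer (Q : Set G)))
      (res (Subgroup.centralizer (Q : Set G)) e) ∧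
    IsDef p ⊤ (res (Subgroup.centralizer (Q : Set G)) f)
      (P.subgroupOf (Subgroup.centralizer (Q : Set G))) := by
  have hP := le_centralizer_of_comm hab hQ.le
  have h : MNorm p Q f P e := MLe.mnorm hQ he.1 (hP.trans (centralizer_le_normalizer Q))
  have hq := hQ.left_pair he.1
  set H := Subgroup.centralizer (Q : Set G) with hH
  have hCP : Subgroup.centralizer (P : Set G) ≤ H := centralizer_le_of_le h.le
  have hmP : (P.subgroupOf H).map H.subtype = P := map_subgroupOf' hP
  have hf : incl H (res H f) = f := incl_res hq.blk.supp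
  have hre : incl H (res H e) = e := incl_res (h.right.blk.supp.mono hCP)
  have hb : IsBlk ⊤ (res H f) := by rw [← isBlk_incl_iff, hf]; exact hq.blk
  have hof : MPairOf p (res H f) (P.subgroupOf H) (res H e) := by
    refine ⟨?_, hb, ?_⟩
    · rw [mpair_incl_iff_of_le (by rw [hmP]; exact hCP), hmP, hre]; exact h.right
    · apply incl_injective
      rw [incl_mul, incl_br, hmP, hf, hre]; exact h.brmul
  have hdef : IsDef p ⊤ (res H f) (P.subgroupOf H) := by
    rw [← isDef_incl_top_iff, hmP, hf]; exact isDef_centralizer_of_comm he hab hQ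
  exact ⟨hof, MPairOf.mmax hof hdef, hdef⟩

theorem mem_stab_res_iff {P H : Subgroup G} {e : MonoidAlgebra k G}
    (hPH : P ≤ H) (he : Supp H e) (x : H) :
    x ∈ stab (Subgroup.normalizer ((P.subgroupOf H : Subgroup H) : Set H)) (res H e) ↔
      (x : G) ∈ stab (Subgroup.normalizer (P : Set G)) e := by
  have hmP : (P.subgroupOf H).map H.subtype = P := map_subgroupOf' hPH
  have h1 : x ∈ Subgroup.normalizer ((P.subgroupOf H : Subgroup H) : Set H) ↔
      (x : G) ∈ Subgroup.normalizer (P : Set G) := by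
    rw [Subgroup.mem_normalizer_iff, Subgroup.mem_normalizer_iff]
    constructor
    · intro h y
      constructor
      · intro hy
        have := (h ⟨y, hPH hy⟩).1 (by rw [Subgroup.mem_subgroupOf]; exact hy)
        rw [Subgroup.mem_subgroupOf] at this
        exact this
      · intro hy
        have hyH : y ∈ H := by
          have := H.mul_mem (H.mul_mem (H.inv_mem x.2) (hPH hy)) x.2
          have h2 : (x : G)⁻¹ * ((x : G) * y * (x : G)⁻¹) * x = y := by group
          rwa [h2] at this
        have := (h ⟨y, hyH⟩).2 (by rw [Subgroup.mem_subgroupOf]; exact hy)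
        rw [Subgroup.mem_subgroupOf] at this
        exact this
    · intro h y
      rw [Subgroup.mem_subgroupOf, Subgroup.mem_subgroupOf]
      exact h y
  have h2 : cj x (res H e) = res H e ↔ cj (x : G) e = e := by
    rw [← (incl_injective (H := H) (k := k)).eq_iff, incl_cj, incl_res he]
  exact and_congr h1 h2

theorem mem_centralizer_subgroupOf_iff {P H : Subgroup G} (hPH : P ≤ H) (x : H) :
    x ∈ Subgroup.centralizer ((P.subgroupOf H : Subgroup H) : Set H) ↔
      (x : G) ∈ Subgroup.centralizer (P : Set G) := by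
  rw [Subgroup.mem_centralizer_iff, Subgroup.mem_centralizer_iff]
  constructor
  · intro h y hy
    have := h ⟨y, hPH hy⟩ (by exact hy)
    exact congrArg Subtype.val this
  · intro h y hy
    exact Subtype.ext (h y hy)

end gen

section Mod

variable {p : ℕ} [hp : Fact p.Prime] {M : Ideal AlgInt} [hMp : M.IsPrime]
  {G : Type u} [Group G] [Fintype G] [CharP (kM M) p]

/-- nilpotency of the local block -/
theorem mnilp_res_iff {P : Subgroup G} {e : MonoidAlgebra (kM M) G} (he : MMax p P e)
    (hab : ∀ x ∈ P, ∀ y ∈ P, x * y = y * x) {Q : Subgroup G} {f : MonoidAlgebra (kM M) G}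
    (hQ : MLe p Q f P e) :
    MNilp p (res (Subgroup.centralizer (Q : Set G)) f) ↔
      ∀ x ∈ stab (Subgroup.normalizer (P : Set G)) e,
        x ∈ Subgroup.centralizer (Q : Set G) → x ∈ Subgroup.centralizer (P : Set G) := by
  obtain ⟨h1, h2, h3⟩ := local_setup he hab hQ
  have hP := le_centralizer_of_comm hab hQ.le
  have hCP : Subgroup.centralizer (P : Set G) ≤ Subgroup.centralizer (Q : Set G) :=
    centralizer_le_of_le hQ.le
  have hes : Supp (Subgroup.centralizer (Q : Set G)) e := he.1.blk.supp.mono hCP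
  have := Fintype.ofFinite (Subgroup.centralizer (Q : Set G))
  rw [mnilp_iff_of_comm h2 h1 (fun x hx y hy => Subtype.ext (hab x hx y hy))
    (fun K f hf => splitBlk hf)]
  constructor
  · intro h x hx hxQ
    have := h ⟨x, hxQ⟩ ((mem_stab_res_iff hP hes _).2 hx)
    exact (mem_centralizer_subgroupOf_iff hP _).1 this
  · intro h x hx
    rw [mem_stab_res_iff hP hes] at hx
    rw [mem_centralizer_subgroupOf_iff hP]
    exact h _ hx x.2

/-- For an abelian defect group, the pair `(Q, f)` below `(P, e)` is given by block induction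
inside `C_G(Q)`. -/
theorem mle_iff_isInducedBlockIn (hM : IsPModular p M) {P : Subgroup G}
    {c : Set (IrrCharacter (Subgroup.centralizer (P : Set G)))} (hc : IsPBlock M c)
    (he : MPair p P (EB M _ c))
    (hab : ∀ x ∈ P, ∀ y ∈ P, x * y = y * x) {Q : Subgroup G} (hQP : Q ≤ P)
    {f : Set (IrrCharacter (Subgroup.centralizer (Q : Set G)))} (hf : IsPBlock M f) :
    IsInducedBlockIn M (Subgroup.centralizer (Q : Set G)) (Subgroup.centralizer (P : Set G)) c f ↔
      MLe p Q (EB M _ f) P (EB M _ c) := by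
  have hP := le_centralizer_of_comm hab hQP
  have hCP : Subgroup.centralizer (P : Set G) ≤ Subgroup.centralizer (Q : Set G) :=
    centralizer_le_of_le hQP
  rw [isInducedBlockIn_iff hM he.isPGroup hP hCP hc hf]
  constructor
  · intro h
    have h1 : MNorm p Q (EB M _ f) P (EB M _ c) :=
      ⟨⟨he.isPGroup.to_le hQP, isBlk_EB hf⟩, he, hQP, hP.trans (centralizer_le_normalizer Q),
        (isBlk_EB hf).fixed.mono hP, h⟩
    exact h1.mle
  · intro h
    exact (MLe.mnorm h he (hP.trans (centralizer_le_normalizer Q))).brmul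

theorem res_EB {H : Subgroup G} [Fintype H] {f : Set (IrrCharacter H)} :
    res H (EB M H f) = eB M f := by
  apply incl_injective
  rw [incl_res', EB_eq, trunc_of_supp (supp_incl _)]

/-- Dictionary for the statements: maximal pair from an inducing block of the centralizer of a
defect group. -/
theorem mmax_of_isInducedBlock (hM : IsPModular p M) {B : Set (IrrCharacter G)}
    (hB : IsPBlock M B) {P : Subgroup G} (hPD : IsDefectGroup p M B P)
    {c : Set (IrrCharacter (Subgroup.centralizer (P : Set G)))}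
    (hc : IsInducedBlock M (Subgroup.centralizer (P : Set G)) c B) :
    MPairOf p (eB M B) P (EB M _ c) ∧ MMax p P (EB M _ c) ∧ IsDef p ⊤ (eB M B) P := by
  have hd := (isDefectGroup_iff hM hB P).1 hPD
  have h1 := (isInducedBlock_iff_pair hM hd.isPGroup hc.1 hB).1 hc
  exact ⟨h1, MPairOf.mmax h1 hd, hd⟩

theorem mem_T_iff {P T : Subgroup G}
    {c : Set (IrrCharacter (Subgroup.centralizer (P : Set G)))} (hc : IsPBlock M c)
    (hT : ∀ g : G, g ∈ T ↔ (g ∈ Subgroup.normalizer (P : Set G) ∧
      StabilizesBlock (Subgroup.centralizer (P : Set G)) c g)) :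
    T = stab (Subgroup.normalizer (P : Set G)) (EB M _ c) := by
  ext g
  rw [hT, stabilizesBlock_iff (M := M) hc]
  constructor
  · rintro ⟨h1, h2⟩; exact ⟨h1, h2.2⟩
  · rintro ⟨h1, h2⟩; exact ⟨h1, normalizer_le_normalizer_centralizer P h1, h2⟩

/-- The inertial index is prime to `p` for abelian defect groups. -/
theorem not_dvd_inertial {P : Subgroup G} {e : MonoidAlgebra (kM M) G} (he : MMax p P e)
    (hab : ∀ x ∈ P, ∀ y ∈ P, x * y = y * x) :
    ¬ p ∣ (Subgroup.centralizer (P : Set G)).relIndex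
      (stab (Subgroup.normalizer (P : Set G)) e) := by
  have h1 := not_dvd_relIndex (C := Subgroup.centralizer (P : Set G)) he.1.blk
    (splitBlk he.1.blk) (centralizer_le_stab he.1.blk)
    ((stab_le _ _).trans (normalizer_le_normalizer_centralizer P))
    (fixed_stab _ _) he.isDef_stab
  rwa [sup_eq_right.2 (le_centralizer_of_comm hab le_rfl)] at h1

end Mod

section free

variable {G : Type*} [Group G] [Finite G]

theorem comm_of_isCyclic {P : Subgroup G} (h : IsCyclic P) :
    ∀ x ∈ P, ∀ y ∈ P, x * y = y * x := by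
  intro x hx y hy
  letI := h.commGroup
  exact congrArg Subtype.val (mul_comm (⟨x, hx⟩ : P) ⟨y, hy⟩)

theorem centralizes_of_fix {p a : ℕ} (hp : p.Prime) {D T : Subgroup G}
    (hD : IsCyclic D) (hDa : Nat.card D = p ^ a) (hT : T ≤ Subgroup.normalizer (D : Set G))
    (hnd : ¬ p ∣ (Subgroup.centralizer (D : Set G)).relIndex T) {g : G} (hg : g ∈ T) {x : G}
    (hx : x ∈ D) (hx1 : x ≠ 1) (hgx : g * x * g⁻¹ = x) : g ∈ Subgroup.centralizer (D : Set G) := by
  obtain ⟨y, hy⟩ := hD.exists_generator
  have hyD : ∀ z ∈ D, ∃ m : ℤ, (y : G) ^ m = z := by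
    intro z hz
    obtain ⟨m, hm⟩ := hy ⟨z, hz⟩
    exact ⟨m, congrArg Subtype.val hm⟩
  have hoy : orderOf (y : G) = p ^ a := by
    rw [← hDa, Subgroup.orderOf_coe, orderOf_eq_card_of_forall_mem_zpowers hy]
  obtain ⟨m, hm⟩ := hyD (g * y * g⁻¹) ((Subgroup.mem_normalizer_iff.1 (hT hg) _).1 y.2)
  obtain ⟨j, hj⟩ := hyD x hx
  have hconj : ∀ i : ℤ, g * (y : G) ^ i * g⁻¹ = (y : G) ^ (m * i) := by
    intro i
    rw [← conj_zpow, ← hm, ← zpow_mul]
  have hpow : ∀ n : ℕ, g ^ n * (y : G) * (g ^ n)⁻¹ = (y : G) ^ (m ^ n) := by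
    intro n
    induction n with
    | zero => simp
    | succ n ih =>
      calc g ^ (n + 1) * (y : G) * (g ^ (n + 1))⁻¹
          = g * (g ^ n * (y : G) * (g ^ n)⁻¹) * g⁻¹ := by rw [pow_succ']; group
        _ = (y : G) ^ (m ^ (n + 1)) := by rw [ih, hconj, pow_succ']
  -- `p ∣ m - 1`
  have hm1 : (p : ℤ) ∣ m - 1 := by
    by_contra hnot
    have h1 : (y : G) ^ (j * (m - 1)) = 1 := by
      have h2 := hconj j
      rw [hj, hgx, ← hj] at h2
      have h3 : j * (m - 1) = m * j - j := by ring
      rw [h3, zpow_sub, ← h2, mul_inv_cancel]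
    have h4 : ((p ^ a : ℕ) : ℤ) ∣ j * (m - 1) := by
      rw [← hoy]; exact orderOf_dvd_iff_zpow_eq_one.2 h1
    have h5 : IsCoprime ((p ^ a : ℕ) : ℤ) (m - 1) := by
      push_cast
      exact IsCoprime.pow_left ((Nat.prime_iff_prime_int.1 hp).coprime_iff_not_dvd.2 hnot)
    have h6 : ((p ^ a : ℕ) : ℤ) ∣ j := h5.dvd_of_dvd_mul_right h4
    rw [← hoy] at h6
    exact hx1 (by rw [← hj]; exact orderOf_dvd_iff_zpow_eq_one.1 h6)
  have h7 : (y : G) ^ (m ^ p ^ a) = y := by
    have h8 := dvd_sub_pow_of_dvd_sub hm1 a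
    rw [one_pow] at h8
    have h9 : ((orderOf (y : G) : ℕ) : ℤ) ∣ m ^ p ^ a - 1 := by
      rw [hoy]
      refine dvd_trans ?_ h8
      push_cast
      exact pow_dvd_pow _ (Nat.le_succ a)
    have h10 := orderOf_dvd_iff_zpow_eq_one.1 h9
    rw [zpow_sub, zpow_one, mul_inv_eq_one] at h10
    exact h10
  have hcen : g ^ (p ^ a) ∈ Subgroup.centralizer (D : Set G) := by
    rw [Subgroup.mem_centralizer_iff]
    intro z hz
    obtain ⟨i, rfl⟩ := hyD z hz
    have h11 := hpow (p ^ a)
    rw [h7] at h11
    have h12 : Commute (g ^ p ^ a) (y : G) := by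
      have : g ^ p ^ a * (y : G) = y * g ^ p ^ a := by
        calc g ^ p ^ a * (y : G) = g ^ p ^ a * (y : G) * (g ^ p ^ a)⁻¹ * g ^ p ^ a := by group
          _ = y * g ^ p ^ a := by rw [h11]
      exact this
    exact (h12.zpow_right i).symm.eq
  -- the index
  have hnorm : ((Subgroup.centralizer (D : Set G)).subgroupOf T).Normal :=
    normal_subgroupOf_centralizer D hT
  have h13 : (⟨g, hg⟩ : T) ^ (p ^ a) ∈ (Subgroup.centralizer (D : Set G)).subgroupOf T := by
    rw [Subgroup.mem_subgroupOf]; exact hcen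
  have h14 : (⟨g, hg⟩ : T) ^ ((Subgroup.centralizer (D : Set G)).relIndex T) ∈
      (Subgroup.centralizer (D : Set G)).subgroupOf T :=
    Subgroup.pow_index_mem _ _
  have h15 : orderOf (QuotientGroup.mk (s := (Subgroup.centralizer (D : Set G)).subgroupOf T)
      (⟨g, hg⟩ : T)) = 1 := by
    have h16 : orderOf (QuotientGroup.mk (s := (Subgroup.centralizer (D : Set G)).subgroupOf T)
        (⟨g, hg⟩ : T)) ∣ p ^ a := by
      apply orderOf_dvd_of_pow_eq_one
      rw [← QuotientGroup.mk_pow]
      exact (QuotientGroup.eq_one_iff _).2 h13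
    have h17 : orderOf (QuotientGroup.mk (s := (Subgroup.centralizer (D : Set G)).subgroupOf T)
        (⟨g, hg⟩ : T)) ∣ (Subgroup.centralizer (D : Set G)).relIndex T := by
      apply orderOf_dvd_of_pow_eq_one
      rw [← QuotientGroup.mk_pow]
      exact (QuotientGroup.eq_one_iff _).2 h14
    have h18 : Nat.Coprime (p ^ a) ((Subgroup.centralizer (D : Set G)).relIndex T) :=
      Nat.Coprime.pow_left _ ((Nat.Prime.coprime_iff_not_dvd hp).2 hnd)
    exact Nat.eq_one_of_dvd_coprimes h18 h16 h17
  rw [orderOf_eq_one_iff, QuotientGroup.eq_one_iff, Subgroup.mem_subgroupOf] at h15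
  exact h15

end free

end Cfsg.Agent.Star
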