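import Cfsg.Agent.Star.Loc

/-!
# Subgroups of cyclic defect groups
-/

set_option autoImplicit false
set_option linter.unusedSectionVars false

namespace Cfsg.Agent.Star
variable {G : Type*} [Group G] [Finite G]

theorem normalizer_le_of_isCyclic {P Q : Subgroup G} (h : IsCyclic P) (hQ : Q ≤ P) {g : G}
    (hg : g ∈ Subgroup.normalizer (P : Set G)) : g ∈ Subgroup.normalizer (Q : Set G) := by
  obtain ⟨y, hy⟩ := h.exists_generator
  have hyD : ∀ z ∈ P, ∃ m : ℤ, (y : G) ^ m = z := by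
    intro z hz
    obtain ⟨m, hm⟩ := hy ⟨z, hz⟩
    exact ⟨m, congrArg Subtype.val hm⟩
  obtain ⟨m, hm⟩ := hyD (g * y * g⁻¹) ((Subgroup.mem_normalizer_iff.1 hg _).1 y.2)
  have key : ∀ z ∈ P, g * z * g⁻¹ = z ^ m := by
    intro z hz
    obtain ⟨i, rfl⟩ := hyD z hz
    rw [← conj_zpow, ← hm, ← zpow_mul, ← zpow_mul, mul_comm]
  have h1 : Q.map (MulAut.conj g).toMonoidHom ≤ Q := by
    rintro _ ⟨z, hz, rfl⟩
    change g * z * g⁻¹ ∈ Q
    rw [key z (hQ hz)]
    exact Q.zpow_mem hz m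
  have h2 : Q.map (MulAut.conj g).toMonoidHom = Q :=
    Subgroup.eq_of_le_of_card_ge h1 (by rw [Blk.card_map_conj])
  rw [Subgroup.mem_normalizer_iff]
  intro z
  constructor
  · intro hz
    have h3 : g * z * g⁻¹ ∈ Q.map (MulAut.conj g).toMonoidHom := ⟨z, hz, rfl⟩
    rwa [h2] at h3
  · intro hz
    change g * z * g⁻¹ ∈ Q at hz
    rw [← h2] at hz
    obtain ⟨w, hw, hwz⟩ := hz
    have h4 : g * w * g⁻¹ = g * z * g⁻¹ := hwz
    have h5 : w = z := by
      have := congrArg (fun t => g⁻¹ * t * g) h4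
      calc w = g⁻¹ * (g * w * g⁻¹) * g := by group
        _ = g⁻¹ * (g * z * g⁻¹) * g := this
        _ = z := by group
    rwa [← h5]

theorem relIndex_congr {A B T : Subgroup G} (h : ∀ g ∈ T, (g ∈ A ↔ g ∈ B)) :
    A.relIndex T = B.relIndex T := by
  rw [Subgroup.relIndex, Subgroup.relIndex]
  congr 1
  ext x
  rw [Subgroup.mem_subgroupOf, Subgroup.mem_subgroupOf]
  exact h x x.2
end Cfsg.Agent.Star
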