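import Cfsg.Agent.Glaub.Over
import Cfsg.Agent.H76.Cover
import Cfsg.Agent.H76.AlperinDade
import Cfsg.Agent.BlkC.SumSq
import Cfsg.Agent.BlkC.BrauerFeit
import Cfsg.Agent.H4.SecThird
import Cfsg.Agent.Transfer.NPC

/-!
# Height-zero characters of the principal block of equal degree (owner: helper77)
-/

set_option autoImplicit false
set_option linter.unusedSectionVars false
set_option linter.style.haveILetI false

namespace Cfsg.Agent.Star

open scoped ComplexConjugate BigOperators
open Cfsg Cfsg.Agent.CharBase Cfsg.Agent.Char Cfsg.Agent.Blk Cfsg.Agent.BlkC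

universe u

section Lin

variable {K : Type u} [Group K] [Finite K] {M : Ideal AlgInt}

/-- the linear character of a homomorphism into the units -/
noncomputable def linIrr (f : K →* ℂˣ) : IrrCharacter K :=
  ⟨fun x => (f x : ℂ), isIrrCharacter_of_hom ((Units.coeHom ℂ).comp f)⟩

theorem linIrr_apply (f : K →* ℂˣ) (x : K) : (linIrr f : K → ℂ) x = (f x : ℂ) := rfl

theorem centralChar_linIrr (f : K →* ℂˣ) (x : K) : centralChar (linIrr f : K → ℂ) x =
    ((Subgroup.centralizer ({x} : Set K)).index : ℂ) * (f x : ℂ) := by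
  unfold centralChar
  rw [linIrr_apply, linIrr_apply, map_one, Units.val_one, div_one]

theorem linIrr_mem_iff (f : K →* ℂˣ) : linIrr f ∈ principalBlock M K ↔ ∀ x : K,
    MemLocalIdeal M (((Subgroup.centralizer ({x} : Set K)).index : ℂ) -
      ((Subgroup.centralizer ({x} : Set K)).index : ℂ) * (f x : ℂ)) := by
  have h1 : ∀ x : K, centralChar (fun _ : K => (1 : ℂ)) x =
      ((Subgroup.centralizer ({x} : Set K)).index : ℂ) := by
    intro x
    unfold centralChar
    rw [mul_one, div_one]
  constructor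
  · intro h x
    have h2 := h x
    rw [h1, centralChar_linIrr] at h2
    exact h2
  · intro h x
    rw [h1, centralChar_linIrr]
    exact h x

theorem mlr_hom (f : K →* ℂˣ) (x : K) [M.IsPrime] : MemLocalRing M (f x : ℂ) := by
  apply mlr_of_isIntegral
  refine IsIntegral.of_pow (n := Nat.card K) Nat.card_pos ?_
  rw [← Units.val_pow_eq_pow_val, ← map_pow, pow_card_eq_one', map_one, Units.val_one]
  exact isIntegral_one

theorem hom_inv_apply (f : K →* ℂˣ) (x : K) : ((f⁻¹ x : ℂˣ) : ℂ) = ((f x : ℂˣ) : ℂ)⁻¹ := by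
  rw [MonoidHom.inv_apply, Units.val_inv_eq_inv_val]

variable (M K) in
/-- invariant linear characters in the principal block -/
noncomputable def Lam0 [M.IsPrime] (D : (K ≃* K) → Prop) : Subgroup (K →* ℂˣ) where
  carrier := {f | linIrr f ∈ principalBlock M K ∧ ∀ e : K ≃* K, D e → ∀ x, f (e x) = f x}
  mul_mem' := by
    rintro f f' ⟨h1, h2⟩ ⟨h3, h4⟩
    refine ⟨?_, fun e he x => by rw [MonoidHom.mul_apply, MonoidHom.mul_apply, h2 e he, h4 e he]⟩
    rw [linIrr_mem_iff] at h1 h3 ⊢
    intro x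
    have h5 := mli_mul_left (mlr_hom (M := M) f x) (h3 x)
    have h6 := mli_add (h1 x) h5
    have h7 : ∀ c : ℂ, c - c * (f x : ℂ) + (f x : ℂ) * (c - c * (f' x : ℂ)) =
        c - c * (((f * f') x : ℂˣ) : ℂ) := by
      intro c
      rw [MonoidHom.mul_apply, Units.val_mul]
      ring
    rwa [h7] at h6
  one_mem' := by
    refine ⟨?_, fun e _ x => by simp⟩
    rw [linIrr_mem_iff]
    intro x
    rw [MonoidHom.one_apply, Units.val_one, mul_one, sub_self]
    exact mli_zero
  inv_mem' := by
    rintro f ⟨h1, h2⟩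
    refine ⟨?_, fun e he x => by rw [MonoidHom.inv_apply, MonoidHom.inv_apply, h2 e he]⟩
    rw [linIrr_mem_iff] at h1 ⊢
    intro x
    have h5 := mli_neg (mli_mul_left (mlr_hom (M := M) f⁻¹ x) (h1 x))
    have h7 : ∀ c : ℂ, -(((f⁻¹ x : ℂˣ) : ℂ) * (c - c * (f x : ℂ))) =
        c - c * ((f⁻¹ x : ℂˣ) : ℂ) := by
      intro c
      rw [hom_inv_apply]
      have := (f x).ne_zero
      field_simp
      ring
    rwa [h7] at h5

theorem mem_Lam0 [M.IsPrime] {D : (K ≃* K) → Prop} {f : K →* ℂˣ} : f ∈ Lam0 K M D ↔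
    linIrr f ∈ principalBlock M K ∧ ∀ e : K ≃* K, D e → ∀ x, f (e x) = f x := Iff.rfl

end Lin

section Main

variable {G : Type u} [Group G] [Finite G] {p : ℕ} [hp : Fact p.Prime] {M : Ideal AlgInt}

theorem npc_of_degrees (hM : IsPModular p M)
    (hdeg : ∀ χ : IrrCharacter G, χ ∈ principalBlock M G → ¬ p ∣ charDegree (χ : G → ℂ) →
      charDegree (χ : G → ℂ) = 1) : HasNormalPComplement p G := by
  classical
  haveI := isPrime_of_isPModular hM
  rw [Transfer.hasNPC_iff_card_pResidual]
  by_contra hc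
  have hpN : p ∣ Nat.card (pResidual p G) := by
    by_contra h
    exact hc ((Nat.Prime.coprime_iff_not_dvd hp.out).mpr h).symm
  haveI hNn : (pResidual p G).Normal := H20.pResidual_normal p
  set N := pResidual p G with hN
  obtain ⟨k, hk⟩ : ∃ k, N.index = p ^ k := Glaub.index_residual p
  haveI : Fintype G := Fintype.ofFinite G
  haveI : Fintype N := Fintype.ofFinite N
  haveI : Fintype (IrrCharacter N) := Fintype.ofFinite _
  obtain ⟨S⟩ := (inferInstance : Nonempty (Sylow p G))
  have hNS : N ⊔ (S : Subgroup G) = ⊤ := by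
    rw [sup_comm]
    exact Transfer.sylow_sup_pResidual S
  have hinvS : ∀ θ : IrrCharacter N, (∀ s ∈ (S : Subgroup G), cj N s (θ : N → ℂ) = θ) ↔
      ∀ g : G, cj N g (θ : N → ℂ) = θ := fun θ =>
    (Glaub.cj_invariant_iff N (S : Subgroup G) hNS (irr_isClassFunction θ)).symm
  -- the sum of squares vanishes modulo p
  have h1 : (∑ θ : IrrCharacter N, (if θ ∈ principalBlock M N then
      ((charDegree (θ : N → ℂ) : ℕ) : ZMod p) ^ 2 else 0)) = 0 := by
    rw [← Finset.sum_filter]
    have e1 : Finset.univ.filter (fun θ : IrrCharacter N => θ ∈ principalBlock M N) =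
        Bfin (principalBlock M N) := by
      ext θ
      simp
    rw [e1]
    have e2 := factorization_sum_sq hM (Blk.isPBlock_principalBlock (M := M) (G := N))
    rw [blockDefect_principalBlock] at e2
    have e3 : 0 < (Nat.card N).factorization p := hp.out.factorization_pos_of_dvd Nat.card_pos.ne' hpN
    have e4 : p ∣ ∑ χ ∈ Bfin (principalBlock M N), charDegree (χ : N → ℂ) ^ 2 := by
      apply Nat.dvd_of_factorization_pos
      rw [e2]
      omega
    have e5 := (ZMod.natCast_eq_zero_iff _ p).mpr e4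
    push_cast at e5
    exact e5
  have h2 := H76.sum_eq_sum_fixed (R := ZMod p) S.isPGroup' ((H76.irrPerm N).comp
    (S : Subgroup G).subtype)
    (fun θ : IrrCharacter N => if θ ∈ principalBlock M N then
      ((charDegree (θ : N → ℂ) : ℕ) : ZMod p) ^ 2 else 0) (by
      intro s ψ
      have e4 : (((H76.irrPerm N).comp (S : Subgroup G).subtype s ψ : IrrCharacter N) : N → ℂ) 1 =
          (ψ : N → ℂ) 1 := by
        change cj N (s : G)⁻¹ (ψ : N → ℂ) 1 = _
        rw [cj_one_apply]
      have e5 : charDegree (((H76.irrPerm N).comp (S : Subgroup G).subtype s ψ : IrrCharacter N) :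
          N → ℂ) = charDegree (ψ : N → ℂ) := by
        unfold charDegree
        rw [e4]
      have e6 : ((H76.irrPerm N).comp (S : Subgroup G).subtype s ψ) ∈ principalBlock M N ↔
          ψ ∈ principalBlock M N := by
        constructor
        · intro h
          refine H76.cj_mem_principalBlock N (s : G) h (θ' := ψ) ?_
          change _ = cj N (s : G) (cj N (s : G)⁻¹ (ψ : N → ℂ))
          rw [cj_cj_inv]
        · intro h
          exact H76.cj_mem_principalBlock N (s : G)⁻¹ h rfl
      simp only [e5, e6]) (fun θ => ∀ s ∈ (S : Subgroup G), cj N s (θ : N → ℂ) = θ)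
    (fun θ => (H76.fixed_irrPerm_iff N S θ).symm)
  rw [h1] at h2
  -- the fixed characters of degree prime to p have degree one
  have hcan : ∀ θ : IrrCharacter N, θ ∈ principalBlock M N → (∀ g : G, cj N g (θ : N → ℂ) = θ) →
      ¬ p ∣ charDegree (θ : N → ℂ) → charDegree (θ : N → ℂ) = 1 := by
    intro θ hθB hθ hd
    obtain ⟨χ, ⟨hχ, hχθ, -⟩, -⟩ := S0867.result N (θ : N → ℂ) θ.2 (fun g n => congrFun (hθ g) n)
      (charDegree (θ : N → ℂ)) (charDegree_spec θ) (by
        rw [hk]
        apply Nat.Coprime.pow_left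
        rw [Nat.Prime.coprime_iff_not_dvd hp.out, Nat.Prime.dvd_mul hp.out]
        push Not
        exact ⟨Glaub.not_dvd_detOrder_residual p θ.2, hd⟩)
    have e1 : charDegree χ = charDegree (θ : N → ℂ) := by
      unfold charDegree
      rw [show χ 1 = (θ : N → ℂ) 1 from hχθ 1]
    have e2 := H76.mem_principalBlock_of_restrict hM N.subtype N.subtype_injective (fun g hg => by
      rw [Subgroup.range_subtype]
      exact Transfer.mem_pResidual_of_coprime
        ((Nat.Prime.coprime_iff_not_dvd hp.out).mpr hg).symm)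
      ⟨χ, hχ⟩ θ hχθ hθB
    rw [← e1]
    exact hdeg ⟨χ, hχ⟩ e2 (by rw [show ((⟨χ, hχ⟩ : IrrCharacter G) : G → ℂ) = χ from rfl, e1]; exact hd)
  -- the group of invariant linear characters
  let D : (N ≃* N) → Prop := fun e => ∃ g : G, ∀ n : N, (e n : G) = g * n * g⁻¹
  let L := Lam0 N M D
  have hLmem : ∀ f : N →* ℂˣ, f ∈ L ↔ linIrr f ∈ principalBlock M N ∧
      ∀ g : G, cj N g (linIrr f : N → ℂ) = linIrr f := by
    intro f
    rw [show (f ∈ L ↔ _) ↔ _ from Iff.rfl, mem_Lam0]
    refine and_congr_right fun _ => ⟨fun h g => ?_, fun h e he x => ?_⟩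
    · funext n
      have e1 := h (MulAut.conjNormal g) ⟨g, fun n => MulAut.conjNormal_apply g n⟩ n
      have e2 : MulAut.conjNormal g n = ⟨g * n * g⁻¹, hNn.conj_mem (n : G) n.2 g⟩ :=
        Subtype.ext (MulAut.conjNormal_apply g n)
      rw [e2] at e1
      show (f ⟨g * n * g⁻¹, hNn.conj_mem (n : G) n.2 g⟩ : ℂ) = (f n : ℂ)
      rw [e1]
    · obtain ⟨g, hg⟩ := he
      have e1 := congrFun (h g) x
      have e2 : e x = ⟨g * x * g⁻¹, hNn.conj_mem (x : G) x.2 g⟩ := Subtype.ext (hg x)
      rw [e2]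
      exact Units.ext e1
  have h3 : (0 : ZMod p) = (Nat.card L : ZMod p) := by
    rw [h2]
    have e1 : (∑ θ : IrrCharacter N, if (∀ s ∈ (S : Subgroup G), cj N s (θ : N → ℂ) = θ) then
        (if θ ∈ principalBlock M N then ((charDegree (θ : N → ℂ) : ℕ) : ZMod p) ^ 2 else 0) else 0) =
        ∑ θ : IrrCharacter N, if ((∀ g : G, cj N g (θ : N → ℂ) = θ) ∧ θ ∈ principalBlock M N ∧
          charDegree (θ : N → ℂ) = 1) then (1 : ZMod p) else 0 := by
      refine Finset.sum_congr rfl fun θ _ => ?_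
      by_cases h4 : ∀ g : G, cj N g (θ : N → ℂ) = θ
      · rw [if_pos ((hinvS θ).mpr h4)]
        by_cases h5 : θ ∈ principalBlock M N
        · rw [if_pos h5]
          by_cases h6 : p ∣ charDegree (θ : N → ℂ)
          · rw [if_neg, (ZMod.natCast_eq_zero_iff _ _).mpr h6]
            · norm_num
            · rintro ⟨-, -, h7⟩
              rw [h7, Nat.dvd_one] at h6
              exact hp.out.ne_one h6
          · rw [if_pos ⟨h4, h5, hcan θ h5 h4 h6⟩, hcan θ h5 h4 h6]
            norm_num
        · rw [if_neg h5, if_neg (fun h => h5 h.2.1)]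
      · rw [if_neg (fun h => h4 ((hinvS θ).mp h)), if_neg (fun h => h4 h.1)]
    rw [e1, Finset.sum_ite, Finset.sum_const, Finset.sum_const_zero, add_zero, nsmul_eq_mul, mul_one]
    congr 1
    rw [← Fintype.card_subtype, ← Nat.card_eq_fintype_card]
    symm
    refine Nat.card_congr (Equiv.ofBijective (fun f : L => (⟨linIrr (f : N →* ℂˣ),
      ((hLmem _).mp f.2).2, ((hLmem _).mp f.2).1, ?_⟩ : {θ : IrrCharacter N //
        (∀ g : G, cj N g (θ : N → ℂ) = θ) ∧ θ ∈ principalBlock M N ∧
          charDegree (θ : N → ℂ) = 1})) ⟨?_, ?_⟩)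
    · have := charDegree_spec (linIrr (f : N →* ℂˣ))
      rw [linIrr_apply, map_one, Units.val_one] at this
      exact_mod_cast this.symm
    · intro f f' h
      have e2 := congrArg (fun z => ((z : {θ : IrrCharacter N //
        (∀ g : G, cj N g (θ : N → ℂ) = θ) ∧ θ ∈ principalBlock M N ∧
          charDegree (θ : N → ℂ) = 1}).1 : N → ℂ)) h
      apply Subtype.ext
      ext x
      exact congrFun e2 x
    · rintro ⟨θ, h4, h5, h6⟩
      have e2 : (θ : N → ℂ) 1 = 1 := by
        rw [charDegree_spec θ, h6, Nat.cast_one]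
      let f : N →* ℂˣ := (linHom (irr_isCharacter θ) e2).toHomUnits
      have e3 : ∀ x, (f x : ℂ) = (θ : N → ℂ) x := fun x => rfl
      have e4 : linIrr f = θ := Subtype.ext (funext e3)
      refine ⟨⟨f, (hLmem f).mpr ?_⟩, ?_⟩
      · rw [e4]
        exact ⟨h5, h4⟩
      · apply Subtype.ext
        exact e4
  have h4 : p ∣ Nat.card L := (ZMod.natCast_eq_zero_iff _ p).mp h3.symm
  obtain ⟨f, hf⟩ := exists_prime_orderOf_dvd_card' p h4
  have h5 : (f : N →* ℂˣ) = 1 := by
    ext x
    have h6 : ∀ x, ((Units.coeHom ℂ).comp (f : N →* ℂˣ)) x ^ p = 1 := by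
      intro x
      have h7 : f ^ p = 1 := by rw [← hf]; exact pow_orderOf_eq_one f
      have h8 := congrArg (fun z : L => (((z : N →* ℂˣ) x : ℂˣ) : ℂ)) h7
      simpa using h8
    have h7 := Glaub.residual_hom_eq_one p ((Units.coeHom ℂ).comp (f : N →* ℂˣ)) h6 x
    simpa using h7
  have h6 : f = 1 := Subtype.ext h5
  rw [h6, orderOf_one] at hf
  exact hp.out.ne_one hf.symm

end Main

section Conv

variable {G : Type u} [Group G] [Finite G] {p : ℕ} [hp : Fact p.Prime] {M : Ideal AlgInt}

theorem principal_height_zero_iff [M.IsPrime] (χ : IrrCharacter G) (hχ : χ ∈ principalBlock M G) :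
    blockHeight p (principalBlock M G) (χ : G → ℂ) = 0 ↔ ¬ p ∣ charDegree (χ : G → ℂ) := by
  haveI := Fintype.ofFinite G
  have h1 := defect_add_nuMin (p := p) (B := principalBlock M G) ⟨χ, hχ⟩
  rw [blockDefect_principalBlock] at h1
  rw [height_eq_zero_iff hχ, show nuMin p (principalBlock M G) = 0 by omega]
  unfold nu
  constructor
  · intro h h2
    have := hp.out.factorization_pos_of_dvd (charDegree_pos χ).ne' h2
    omega
  · intro h
    exact Nat.factorization_eq_zero_of_not_dvd h

/-- **S4888** -/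
theorem equal_degrees_iff (hM : IsPModular p M) :
    (∃ d : ℕ, ∀ χ : IrrCharacter G, χ ∈ (principalBlock M G) →
      blockHeight p (principalBlock M G) (χ : G → ℂ) = 0 → charDegree (χ : G → ℂ) = d) ↔
      HasNormalPComplement p G := by
  classical
  haveI := isPrime_of_isPModular hM
  haveI := Fintype.ofFinite G
  constructor
  · rintro ⟨d, hd⟩
    have hone : oneIrr G ∈ principalBlock M G := fun g => by
      rw [show ((oneIrr G : IrrCharacter G) : G → ℂ) = fun _ => (1 : ℂ) from rfl, sub_self]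
      exact mli_zero
    have h1 : charDegree ((oneIrr G : IrrCharacter G) : G → ℂ) = 1 := by
      have := charDegree_spec (oneIrr G)
      rw [show ((oneIrr G : IrrCharacter G) : G → ℂ) 1 = (1 : ℂ) from rfl] at this
      exact_mod_cast this.symm
    have hd1 : d = 1 := by
      rw [← hd (oneIrr G) hone ((principal_height_zero_iff _ hone).mpr (by
        rw [h1, Nat.dvd_one]; exact hp.out.ne_one)), h1]
    refine npc_of_degrees hM fun χ hχ h => ?_
    rw [hd χ hχ ((principal_height_zero_iff _ hχ).mpr h), hd1]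
  · intro h
    obtain ⟨k, hk⟩ := Transfer.index_pResidual_eq_pow (p := p) (G := G)
    rw [Transfer.hasNPC_iff_card_pResidual] at h
    haveI hn : (pPrimeCore p G).Normal := inferInstance
    have h1 : pResidual p G ≤ pPrimeCore p G :=
      Solv.le_pPrimeCore (H20.pResidual_normal p) h
    have h2 : ∃ k : ℕ, (pPrimeCore p G).index = p ^ k := by
      have := Subgroup.index_dvd_of_le h1
      rw [hk] at this
      obtain ⟨j, -, hj⟩ := (Nat.dvd_prime_pow hp.out).mp this
      exact ⟨j, hj⟩
    refine ⟨1, fun χ hχ h0 => ?_⟩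
    rw [principal_height_zero_iff _ hχ] at h0
    rw [H4.principalBlock_eq_of_npc M hM h2] at hχ
    obtain ⟨χ', hχ', he⟩ := H75.exists_deflate_irr (pPrimeCore p G) χ.2 hχ
    have h3 := charDegree_dvd_card (⟨χ', hχ'⟩ : IrrCharacter (G ⧸ pPrimeCore p G))
    have h4 : charDegree χ' = charDegree (χ : G → ℂ) := by
      unfold charDegree
      rw [← he 1]
      rfl
    obtain ⟨j, hj⟩ := h2
    rw [← Subgroup.index_eq_card, hj, show (((⟨χ', hχ'⟩ : IrrCharacter (G ⧸ pPrimeCore p G))) :
      (G ⧸ pPrimeCore p G) → ℂ) = χ' from rfl, h4] at h3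
    obtain ⟨i, -, hi⟩ := (Nat.dvd_prime_pow hp.out).mp h3
    rcases Nat.eq_zero_or_pos i with h5 | h5
    · rw [hi, h5, pow_zero]
    · exact absurd (hi ▸ dvd_pow_self p h5.ne') h0

end Conv

end Cfsg.Agent.Star
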