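import Cfsg.Agent.H67.CopDeg
import Cfsg.Agent.H75.Zeros
import Cfsg.Agent.H75.CenterDeg
import Cfsg.Agent.H75.ItoConv
import Cfsg.Agent.H76.Congr
import Cfsg.Agent.Frob.Basic
import Cfsg.Agent.Fus.Alperin
import Cfsg.Agent.Star.EqDeg

/-!
# Groups whose vanishing elements have `p`-power order (owner: helper77)
-/

set_option autoImplicit false
set_option linter.unusedSectionVars false
set_option linter.style.haveILetI false

namespace Cfsg.Agent.Star

open scoped ComplexConjugate BigOperators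
open Cfsg Cfsg.Agent.CharBase Cfsg.Agent.Char Cfsg.Agent.Blk Cfsg.Agent.BlkC Cfsg.Agent.H75

universe u

section Moved

open Subgroup Cfsg.Agent.H67

variable {G : Type u} [Group G] [Finite G] {p : ℕ} [hp : Fact p.Prime]

theorem commute_of_fix_irr (N : Subgroup G) [N.Normal] (hN : ¬ p ∣ Nat.card N)
    {x : G} {j : ℕ} (hx : x ^ p ^ j = 1) (hfix : ∀ θ : IrrCharacter N, x ∈ inertia N (θ : N → ℂ))
    {n : G} (hn : n ∈ N) : x * n = n * x := by
  classical
  have := Fintype.ofFinite N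
  let α : N ≃* N := MulAut.conjNormal x
  have hα : ∀ y : N, ((α y : N) : G) = x * y * x⁻¹ := fun y => MulAut.conjNormal_apply x y
  have hall : ∀ χ : IrrCharacter N, (χ : N → ℂ) ∘ α = (χ : N → ℂ) := by
    intro χ
    have h1 : x ∈ inertia N (χ : N → ℂ) := hfix χ
    rw [mem_inertia_iff] at h1
    funext y
    have h2 := h1 y
    rw [Function.comp_apply, ← h2]
    congr 1
  have hc := S0173.result (G := N) α
  have hc1 : Nat.card {χ : IrrCharacter N // (χ : N → ℂ) ∘ α = (χ : N → ℂ)} = Nat.card (IrrCharacter N) :=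
    Nat.card_congr (Equiv.subtypeUnivEquiv hall)
  have hc2 := S0173.result (G := N) (MulEquiv.refl N)
  have hc3 : Nat.card {χ : IrrCharacter N // (χ : N → ℂ) ∘ (MulEquiv.refl N) = (χ : N → ℂ)} =
      Nat.card (IrrCharacter N) := Nat.card_congr (Equiv.subtypeUnivEquiv (fun _ => rfl))
  have hc4 : Nat.card {C : ConjClasses N // ConjClasses.map (MulEquiv.refl N).toMonoidHom C = C} =
      Nat.card (ConjClasses N) := by
    apply Nat.card_congr (Equiv.subtypeUnivEquiv ?_)
    intro C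
    induction C using Quotient.inductionOn with
    | h y => rfl
  have hc5 : Nat.card {C : ConjClasses N // ConjClasses.map α.toMonoidHom C = C} = Nat.card (ConjClasses N) := by
    rw [hc, hc1, ← hc3, ← hc2, hc4]
  have hfixC : ∀ C : ConjClasses N, ConjClasses.map α.toMonoidHom C = C := by
    have : Fintype (ConjClasses N) := Fintype.ofFinite _
    by_contra hcon
    push Not at hcon
    obtain ⟨C, hC⟩ := hcon
    have := Finite.card_subtype_lt (p := fun C : ConjClasses N => ConjClasses.map α.toMonoidHom C = C) hC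
    omega
  -- powers of α
  have hαp : (α : MulAut N) ^ p ^ j = 1 := by
    show (MulAut.conjNormal x) ^ p ^ j = 1
    rw [← map_pow, hx, map_one]
  -- the fixed points
  let H : Subgroup N := (centralizer ({x} : Set G)).subgroupOf N
  have hH : H = ⊤ := by
    apply eq_top_of_conj_cover
    intro y
    let C := ConjClasses.mk y
    have hiff : ∀ z : N, α z ∈ C.carrier ↔ z ∈ C.carrier := by
      intro z
      rw [ConjClasses.mem_carrier_iff_mk_eq, ConjClasses.mem_carrier_iff_mk_eq]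
      have h1 : ConjClasses.mk (α z) = ConjClasses.mk z := hfixC (ConjClasses.mk z)
      rw [h1]
    let σ : Equiv.Perm {z : N // z ∈ C.carrier} := Equiv.Perm.subtypePerm (α.toEquiv : Equiv.Perm N) hiff
    have hσ : σ ^ p ^ j = 1 := by
      rw [Equiv.Perm.subtypePerm_pow]
      apply Equiv.ext
      intro z
      apply Subtype.ext
      have h1 : ∀ (m : ℕ) (w : N), ((α.toEquiv : Equiv.Perm N) ^ m) w = ((α : MulAut N) ^ m) w := by
        intro m
        induction m with
        | zero => intro w; rfl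
        | succ m ih => intro w; rw [pow_succ, pow_succ, Equiv.Perm.mul_apply, MulAut.mul_apply, ih]; rfl
      show ((α.toEquiv : Equiv.Perm N) ^ p ^ j) z.1 = z.1
      rw [h1, hαp]
      rfl
    have hcard : ¬ p ∣ Fintype.card {z : N // z ∈ C.carrier} := by
      intro hdvd
      apply hN
      refine hdvd.trans ?_
      have : Fintype.card {z : N // z ∈ C.carrier} = (centralizer ({y} : Set N)).index := by
        rw [← Nat.card_eq_fintype_card]
        rw [← ncard_carrier_eq_index]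
        rfl
      rw [this]
      exact index_dvd_card _
    obtain ⟨z, hz⟩ := Equiv.Perm.exists_fixed_point_of_prime hcard hσ
    have hz1 : α z.1 = z.1 := congrArg Subtype.val hz
    have hz2 : IsConj y z.1 := by
      have := z.2
      rw [ConjClasses.mem_carrier_iff_mk_eq] at this
      exact (ConjClasses.mk_eq_mk_iff_isConj.mp this).symm
    obtain ⟨c, hc⟩ := isConj_iff.mp hz2
    refine ⟨c, ?_⟩
    rw [hc]
    show (z.1 : G) ∈ centralizer ({x} : Set G)
    rw [mem_centralizer_singleton_iff]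
    have h3 := hα z.1
    rw [hz1] at h3
    calc (z.1 : G) * x = (x * (z.1 : G) * x⁻¹) * x := by rw [← h3]
      _ = x * z.1 := by group
  have h1 : (⟨n, hn⟩ : N) ∈ H := by rw [hH]; exact mem_top _
  exact (mem_centralizer_singleton_iff.mp h1).symm


end Moved

section Nilp

/-- nonvanishing elements of `p`-groups are central -/
theorem mem_center_of_nonvanishing {p : ℕ} [hp : Fact p.Prime] (n : ℕ) : ∀ (Q : Type u) [Group Q] [Finite Q],
    Nat.card Q = n → IsPGroup p Q → ∀ x : Q, (∀ χ : IrrCharacter Q, (χ : Q → ℂ) x ≠ 0) →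
      x ∈ Subgroup.center Q := by
  induction n using Nat.strong_induction_on with
  | _ n ih =>
  intro Q _ _ hcard hQ x hx
  rcases subsingleton_or_nontrivial Q with hs | hnt
  · rw [Subsingleton.elim x 1]; exact one_mem _
  have hZ : Nontrivial (Subgroup.center Q) := hQ.center_nontrivial
  have hlt : Nat.card (Q ⧸ Subgroup.center Q) < n := by
    rw [← hcard, ← Subgroup.index_eq_card]
    have h1 := (Subgroup.center Q).card_mul_index
    have h2 : 1 < Nat.card (Subgroup.center Q) := Finite.one_lt_card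
    have h3 : 0 < (Subgroup.center Q).index := Nat.pos_of_ne_zero Subgroup.index_ne_zero_of_finite
    nlinarith
  have h1 := ih _ hlt (Q ⧸ Subgroup.center Q) rfl (hQ.to_quotient _) (QuotientGroup.mk x) (by
    intro χ h0
    exact hx ⟨_, isIrrCharacter_inflate (Subgroup.center Q) χ.2⟩ h0)
  rw [Subgroup.mem_center_iff]
  intro g
  by_contra hne
  have hz : x⁻¹ * (g * x * g⁻¹) ∈ Subgroup.center Q := by
    rw [← QuotientGroup.eq]
    have h2 := Subgroup.mem_center_iff.mp h1 (QuotientGroup.mk g)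
    rw [← QuotientGroup.mk_mul, ← QuotientGroup.mk_mul] at h2
    rw [QuotientGroup.mk_mul, h2, QuotientGroup.mk_mul, QuotientGroup.mk_inv, mul_inv_cancel_right]
  have hz1 : x⁻¹ * (g * x * g⁻¹) ≠ 1 := by
    intro h
    apply hne
    have h3 : g * x * g⁻¹ = x := by
      rw [inv_mul_eq_one] at h; exact h.symm
    calc g * x = g * x * g⁻¹ * g := by group
      _ = x * g := by rw [h3]
  obtain ⟨χ, hχ⟩ : ∃ χ : IrrCharacter Q, (χ : Q → ℂ) (x⁻¹ * (g * x * g⁻¹)) ≠ (χ : Q → ℂ) 1 := by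
    by_contra hcon
    push Not at hcon
    exact hz1 (isConj_one_left.mp (isConj_of_forall_char hcon))
  have h4 := char_mul_central χ.2 hz x
  have h5 : x * (x⁻¹ * (g * x * g⁻¹)) = g * x * g⁻¹ := by group
  rw [h5, irr_isClassFunction χ] at h4
  have h6 := hx χ
  have h7 : (χ : Q → ℂ) 1 ≠ 0 := irr_one_ne_zero χ.2
  apply hχ
  have h8 : (χ : Q → ℂ) (x⁻¹ * (g * x * g⁻¹)) / (χ : Q → ℂ) 1 = 1 := by
    have h9 : (1 : ℂ) * (χ : Q → ℂ) x = (χ : Q → ℂ) (x⁻¹ * (g * x * g⁻¹)) / (χ : Q → ℂ) 1 *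
        (χ : Q → ℂ) x := by rw [one_mul]; exact h4
    exact (mul_right_cancel₀ h6 h9).symm
  rwa [div_eq_one_iff_eq h7] at h8

end Nilp

section Main

variable {G : Type u} [Group G] [Finite G] {p : ℕ} [hp : Fact p.Prime]

theorem van_dvd (hvan : ∀ g : G, (∃ χ : IrrCharacter G, (χ : G → ℂ) g = 0) →
    ∃ m : ℕ, 1 ≤ m ∧ orderOf g = p ^ m) (χ : IrrCharacter G)
    (hχ : ¬ p ∣ charDegree (χ : G → ℂ)) : charDegree (χ : G → ℂ) = 1 := by
  by_contra hne
  have h1 : 1 < deg χ := by
    rw [charDegree_eq_deg] at hne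
    have := deg_pos χ
    omega
  obtain ⟨g, hg⟩ := exists_zero_of_nonlinear χ h1
  obtain ⟨m, -, hm⟩ := hvan g ⟨χ, hg⟩
  obtain ⟨M, hM⟩ := Glaub.exists_isPModular hp.out
  haveI := isPrime_of_isPModular hM
  have h2 := H76.mli_char_sub_one hM (irr_isCharacter χ) ⟨m, hm⟩
  rw [hg, charDegree_spec, zero_sub] at h2
  have h3 := mli_neg h2
  rw [neg_neg, mli_natCast_iff hM] at h3
  exact hχ h3

theorem vanish_main (hna : ¬ ∀ a b : G, a * b = b * a)
    (hvan : ∀ g : G, (∃ χ : IrrCharacter G, (χ : G → ℂ) g = 0) →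
      ∃ m : ℕ, 1 ≤ m ∧ orderOf g = p ^ m) :
    IsPGroup p G ∨ (Subgroup.center G = pCore p G ∧
      ∃ H : Subgroup (G ⧸ Subgroup.center G), IsFrobeniusComplement H ∧ IsPGroup p H) := by
  classical
  haveI := Fintype.ofFinite G
  obtain ⟨M, hM⟩ := Glaub.exists_isPModular hp.out
  have hnpc : HasNormalPComplement p G := npc_of_degrees hM (fun χ _ h => van_dvd hvan χ h)
  obtain ⟨P⟩ := (inferInstance : Nonempty (Sylow p G))
  obtain ⟨K, hKn, hc⟩ := (Transfer.hasNPC_iff_sylow P).mp hnpc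
  obtain ⟨hKp, k, hKi⟩ := Transfer.card_index_of_isComplement' hc
  by_cases hK : K = ⊥
  · left
    rw [hK, Subgroup.index_bot] at hKi
    exact IsPGroup.of_card hKi
  right
  have hKpd : ¬ p ∣ Nat.card K := (Nat.Prime.coprime_iff_not_dvd hp.out).mp hKp.symm
  haveI := Fintype.ofFinite K
  -- commuting pairs
  have hnv : ∀ u ∈ (P : Subgroup G), ∀ k ∈ K, k ≠ 1 → u * k = k * u →
      ∀ χ : IrrCharacter G, (χ : G → ℂ) (u * k) ≠ 0 := by
    intro u hu k hk hk1 hc χ h0
    obtain ⟨m, -, hm⟩ := hvan _ ⟨χ, h0⟩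
    obtain ⟨a, ha⟩ := (P.isPGroup'.exists_card_eq)
    have h1 : ∃ j, orderOf u = p ^ j := by
      obtain ⟨j, hj⟩ := P.isPGroup' ⟨u, hu⟩
      have h2 : u ^ p ^ j = 1 := by simpa [Subtype.ext_iff] using hj
      obtain ⟨i, -, hi⟩ := (Nat.dvd_prime_pow hp.out).mp (orderOf_dvd_of_pow_eq_one h2)
      exact ⟨i, hi⟩
    obtain ⟨j, hj⟩ := h1
    have h2 : (orderOf k).Coprime p := by
      refine Nat.Coprime.coprime_dvd_left ?_ hKp
      rw [← Subgroup.orderOf_mk k hk]
      exact orderOf_dvd_natCard _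
    have h3 : (orderOf u).Coprime (orderOf k) := by
      rw [hj]; exact (h2.symm).pow_left j
    have h4 : orderOf (u * k) = orderOf u * orderOf k :=
      (show Commute u k from hc).orderOf_mul_eq_mul_orderOf_of_coprime h3
    rw [hm] at h4
    have h5 : orderOf k ∣ p ^ m := h4 ▸ dvd_mul_left _ _
    have h6 := Nat.Coprime.eq_one_of_dvd (h2.pow_right m) h5
    exact hk1 (orderOf_eq_one_iff.mp h6)
  have hQp : IsPGroup p (G ⧸ K) := by
    apply IsPGroup.of_card (n := k)
    rw [← Subgroup.index_eq_card, hKi]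
  have hB : ∀ u ∈ (P : Subgroup G), (∃ k ∈ K, k ≠ 1 ∧ u * k = k * u) → ∀ y ∈ (P : Subgroup G),
      y * u = u * y := by
    rintro u hu ⟨k, hk, hk1, hc'⟩ y hy
    have h1 : (QuotientGroup.mk u : G ⧸ K) ∈ Subgroup.center (G ⧸ K) := by
      refine mem_center_of_nonvanishing (p := p) _ (G ⧸ K) rfl hQp _ fun χ h0 => ?_
      refine hnv u hu k hk hk1 hc' ⟨_, isIrrCharacter_inflate K χ.2⟩ ?_
      change (χ : G ⧸ K → ℂ) (QuotientGroup.mk (u * k)) = 0
      rw [QuotientGroup.mk_mul, (QuotientGroup.eq_one_iff k).mpr hk, mul_one, h0]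
    have h2 := Subgroup.mem_center_iff.mp h1 (QuotientGroup.mk y)
    rw [← QuotientGroup.mk_mul, ← QuotientGroup.mk_mul, QuotientGroup.eq] at h2
    have h3 : (y * u)⁻¹ * (u * y) ∈ (P : Subgroup G) :=
      mul_mem (inv_mem (mul_mem hy hu)) (mul_mem hu hy)
    have h4 := Subgroup.disjoint_def.mp hc.disjoint h2 h3
    rwa [inv_mul_eq_one] at h4
  have hC : ∀ u ∈ (P : Subgroup G), (∃ k ∈ K, k ≠ 1 ∧ u * k = k * u) → ∀ n ∈ K, u * n = n * u := by
    intro u hu hex
    have hB' := hB u hu hex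
    obtain ⟨k, hk, hk1, hc'⟩ := hex
    have hup : ∃ j, u ^ p ^ j = 1 := by
      obtain ⟨j, hj⟩ := P.isPGroup' ⟨u, hu⟩
      exact ⟨j, by simpa [Subtype.ext_iff] using hj⟩
    obtain ⟨j, hj⟩ := hup
    intro n hn
    refine commute_of_fix_irr K hKpd hj (fun θ => ?_) hn
    by_contra hθ
    obtain ⟨χ, hχ, hne⟩ := exists_over K θ.2
    have hKT := le_inertia K (irr_isClassFunction θ)
    haveI : Fintype (inertia K (θ : K → ℂ)) := Fintype.ofFinite _
    obtain ⟨ψ, -, hind, -⟩ := clifford_correspondence K (inertia K (θ : K → ℂ)) θ.2 rfl hKT hχ hne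
    refine hnv u hu k hk hk1 hc' ⟨χ, hχ⟩ ?_
    change χ (u * k) = 0
    rw [← hind]
    unfold indFun
    rw [Finset.sum_eq_zero, mul_zero]
    intro x _
    apply extendByZero_of_notMem
    intro hx
    have h1 : x⁻¹ * u * x ∈ inertia K (θ : K → ℂ) := by
      have h2 : x⁻¹ * u * x = (x⁻¹ * (u * k) * x) * (x⁻¹ * k * x)⁻¹ := by group
      rw [h2]
      refine mul_mem hx (inv_mem (hKT ?_))
      have := hKn.conj_mem k hk x⁻¹
      rwa [inv_inv] at this
    have h3 : x⁻¹ ∈ K ⊔ (P : Subgroup G) := by rw [hc.sup_eq_top]; trivial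
    obtain ⟨k1, hk1', y, hy, hxy⟩ := Subgroup.mem_sup_of_normal_left.mp h3
    have h4 : x⁻¹ * u * x = k1 * u * k1⁻¹ := by
      have e1 : x = (k1 * y)⁻¹ := by rw [hxy, inv_inv]
      rw [e1, inv_inv]
      calc k1 * y * u * (k1 * y)⁻¹ = k1 * (y * u) * y⁻¹ * k1⁻¹ := by group
        _ = k1 * (u * y) * y⁻¹ * k1⁻¹ := by rw [hB' y hy]
        _ = _ := by group
    rw [h4] at h1
    apply hθ
    have h5 : u = k1⁻¹ * (k1 * u * k1⁻¹) * k1 := by group
    rw [h5]
    exact mul_mem (mul_mem (inv_mem (hKT hk1')) h1) (hKT hk1')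
  -- dichotomy
  have hD : ∀ u ∈ (P : Subgroup G), u ∉ Subgroup.center G → ∀ k ∈ K, u * k = k * u → k = 1 := by
    intro u hu huz k hk hc'
    by_contra hk1
    apply huz
    rw [Subgroup.mem_center_iff]
    intro g
    have h1 : g ∈ K ⊔ (P : Subgroup G) := by rw [hc.sup_eq_top]; trivial
    obtain ⟨n, hn, y, hy, rfl⟩ := Subgroup.mem_sup_of_normal_left.mp h1
    rw [mul_assoc, hB u hu ⟨k, hk, hk1, hc'⟩ y hy, ← mul_assoc, ← hC u hu ⟨k, hk, hk1, hc'⟩ n hn,
      mul_assoc]
  have hPK : ∀ x ∈ K, x ∈ (P : Subgroup G) → x = 1 := fun x h1 h2 =>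
    Subgroup.disjoint_def.mp hc.disjoint h1 h2
  -- a noncentral element of P
  have hE : ∃ u ∈ (P : Subgroup G), u ∉ Subgroup.center G := by
    by_contra hcon
    push Not at hcon
    apply hna
    have hPn : (P : Subgroup G).Normal := by
      constructor
      intro n hn g
      have := Subgroup.mem_center_iff.mp (hcon n hn) g
      rw [this, mul_inv_cancel_right]
      exact hn
    refine comm_of_forall_linear fun χ => ?_
    have h1 := ito χ (P : Subgroup G) (fun a ha b _ => ((Subgroup.mem_center_iff.mp (hcon a ha)) b).symm)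
    have h2 : ¬ p ∣ charDegree (χ : G → ℂ) := by
      rw [charDegree_eq_deg]
      exact fun h => P.not_dvd_index (h.trans h1)
    rw [charDegree_spec, van_dvd hvan χ h2, Nat.cast_one]
  obtain ⟨u, hu, huz⟩ := hE
  obtain ⟨k0, hk0, hk01⟩ : ∃ k ∈ K, k ≠ 1 := by
    by_contra hcon
    push Not at hcon
    exact hK (by rw [eq_bot_iff]; exact fun x hx => Subgroup.mem_bot.mpr (hcon x hx))
  have hKZ : ∀ x ∈ K, x ∈ Subgroup.center G → x = 1 := fun x h1 h2 =>
    hD u hu huz x h1 (Subgroup.mem_center_iff.mp h2 u)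
  have hcoreP : pCore p G ≤ (P : Subgroup G) := Fus.pCore_le_sylow P
  have hcoreN : (pCore p G).Normal := Fus.pCore_normal' p G
  have h1 : pCore p G ≤ Subgroup.center G := by
    intro x hx
    by_contra hxz
    have h2 : x * k0 * x⁻¹ * k0⁻¹ = 1 := by
      apply hPK
      · exact mul_mem (hKn.conj_mem k0 hk0 x) (inv_mem hk0)
      · apply hcoreP
        have : x * k0 * x⁻¹ * k0⁻¹ = x * (k0 * x⁻¹ * k0⁻¹) := by group
        rw [this]
        exact mul_mem hx (hcoreN.conj_mem _ (inv_mem hx) k0)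
    refine hk01 (hD x (hcoreP hx) hxz k0 hk0 ?_)
    rw [mul_inv_eq_one, mul_inv_eq_iff_eq_mul] at h2
    exact h2
  have h2 : Subgroup.center G ≤ pCore p G := by
    refine Fus.le_pCore inferInstance ?_
    intro z
    -- the order of z is a power of p
    have hz0 := orderOf_pos (z : G)
    obtain ⟨a, m, hm, hzm⟩ := Nat.exists_eq_pow_mul_and_not_dvd hz0.ne' p hp.out.ne_one
    refine ⟨a, ?_⟩
    apply Subtype.ext
    rw [Subgroup.coe_pow, OneMemClass.coe_one]
    refine hKZ _ ?_ (pow_mem z.2 _)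
    obtain ⟨j, hj⟩ := hQp (QuotientGroup.mk (z : G))
    rw [← QuotientGroup.eq_one_iff, QuotientGroup.mk_pow]
    rw [← orderOf_eq_one_iff]
    have e1 : orderOf ((QuotientGroup.mk (z : G) : G ⧸ K) ^ p ^ a) ∣ p ^ j := by
      apply orderOf_dvd_of_pow_eq_one
      rw [← pow_mul, mul_comm, pow_mul, hj, one_pow]
    have e2 : orderOf ((QuotientGroup.mk (z : G) : G ⧸ K) ^ p ^ a) ∣ m := by
      apply orderOf_dvd_of_pow_eq_one
      rw [← pow_mul, ← hzm, ← QuotientGroup.mk_pow, pow_orderOf_eq_one, QuotientGroup.mk_one]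
    have e3 : (p ^ j).Coprime m := ((Nat.Prime.coprime_iff_not_dvd hp.out).mpr hm).pow_left j
    exact Nat.dvd_one.mp (e3 ▸ Nat.dvd_gcd e1 e2)
  refine ⟨le_antisymm h2 h1, (P : Subgroup G).map (QuotientGroup.mk' (Subgroup.center G)), ?_,
    P.isPGroup'.map _⟩
  have hZP : Subgroup.center G ≤ (P : Subgroup G) := h2.trans hcoreP
  have hKm : (K.map (QuotientGroup.mk' (Subgroup.center G))).Normal :=
    hKn.map _ (QuotientGroup.mk'_surjective _)
  rw [Frob.isFrobeniusComplement_iff_fpf (K := K.map (QuotientGroup.mk' (Subgroup.center G)))]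
  · rintro _ ⟨x, hx, rfl⟩ hx1
    have hxz : x ∉ Subgroup.center G := by
      intro h
      exact hx1 ((QuotientGroup.eq_one_iff x).mpr h)
    rw [eq_bot_iff]
    rintro _ ⟨⟨n, hn, rfl⟩, h3⟩
    rw [Subgroup.mem_bot]
    have h4 := Subgroup.mem_centralizer_iff.mp h3 _ rfl
    rw [← map_mul, ← map_mul, QuotientGroup.mk'_apply, QuotientGroup.mk'_apply, QuotientGroup.eq] at h4
    have h5 : (x * n)⁻¹ * (n * x) ∈ K := by
      have : (x * n)⁻¹ * (n * x) = n⁻¹ * (x⁻¹ * n * x) := by group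
      rw [this]
      have h6 := hKn.conj_mem n hn x⁻¹
      rw [inv_inv] at h6
      exact mul_mem (inv_mem hn) h6
    have h6 := hKZ _ h5 h4
    rw [inv_mul_eq_one] at h6
    rw [hD x hx hxz n hn h6, map_one]
  · apply Subgroup.isComplement'_of_disjoint_and_mul_eq_univ
    · rw [Subgroup.disjoint_def]
      rintro _ ⟨n, hn, rfl⟩ ⟨y, hy, hyn⟩
      rw [QuotientGroup.mk'_apply, QuotientGroup.mk'_apply, QuotientGroup.eq] at hyn
      have h3 : n ∈ (P : Subgroup G) := by
        have h4 := mul_mem hy (hZP hyn)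
        rwa [mul_inv_cancel_left] at h4
      rw [hPK n hn h3, map_one]
    · rw [Set.eq_univ_iff_forall]
      intro q
      obtain ⟨g, rfl⟩ := QuotientGroup.mk'_surjective _ q
      have h3 : g ∈ K ⊔ (P : Subgroup G) := by rw [hc.sup_eq_top]; trivial
      obtain ⟨n, hn, y, hy, rfl⟩ := Subgroup.mem_sup_of_normal_left.mp h3
      rw [map_mul]
      exact Set.mul_mem_mul ⟨n, hn, rfl⟩ ⟨y, hy, rfl⟩
  · intro h
    have h3 : QuotientGroup.mk' (Subgroup.center G) k0 ∈
      K.map (QuotientGroup.mk' (Subgroup.center G)) := ⟨k0, hk0, rfl⟩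
    rw [h, Subgroup.mem_bot] at h3
    exact hk01 (hKZ k0 hk0 ((QuotientGroup.eq_one_iff k0).mp h3))
  · intro h
    have h3 : QuotientGroup.mk' (Subgroup.center G) u ∈
      (P : Subgroup G).map (QuotientGroup.mk' (Subgroup.center G)) := ⟨u, hu, rfl⟩
    rw [h, Subgroup.mem_bot] at h3
    exact huz ((QuotientGroup.eq_one_iff u).mp h3)

end Main

end Cfsg.Agent.Star
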